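import Cfsg.Agent.Lib.U34.Data
import Mathlib.Algebra.Field.Defs
import Mathlib.Algebra.Ring.Basic
import Mathlib.Data.Fintype.Card
import Mathlib.Data.Fintype.EquivFin
import Mathlib.LinearAlgebra.Matrix.Adjugate
import Mathlib.Tactic.FinCases

/-! The field with 16 elements as tables, and 3 × 3 matrices over it packed into natural numbers. -/

namespace Cfsg.Agent.U34

/-- Entry `k` of a packed number, 4 bits per entry. -/
def getC (n k : ℕ) : ℕ := (n >>> (4 * k)) % 16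

theorem getC_lt (n k : ℕ) : getC n k < 16 := Nat.mod_lt _ (by norm_num)

/-- The field with 16 elements. -/
structure F16 where
  /-- The code of the element. -/
  val : Fin 16
deriving DecidableEq

namespace F16

/-- Elements are their codes. -/
def equivFin : F16 ≃ Fin 16 := ⟨F16.val, F16.mk, fun _ => rfl, fun _ => rfl⟩

instance : Fintype F16 := Fintype.ofEquiv _ equivFin.symm

theorem card : Fintype.card F16 = 16 := by
  rw [Fintype.card_congr equivFin, Fintype.card_fin]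

/-- The value as a natural number. -/
def toN (a : F16) : ℕ := a.val.val

theorem toN_lt (a : F16) : a.toN < 16 := a.val.isLt

theorem toN_injective : Function.Injective toN := fun a b h => by
  cases a; cases b; exact congrArg F16.mk (Fin.ext h)

/-- Element with the given code. -/
def ofN (n : ℕ) : F16 := ⟨⟨n % 16, Nat.mod_lt _ (by norm_num)⟩⟩

instance : Zero F16 := ⟨ofN 0⟩
instance : One F16 := ⟨ofN 1⟩
instance : Add F16 := ⟨fun a b => ofN (a.toN ^^^ b.toN)⟩
instance : Mul F16 := ⟨fun a b => ofN (getC mulTable (16 * a.toN + b.toN))⟩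
instance : Neg F16 := ⟨fun a => a⟩
instance : Inv F16 := ⟨fun a => ofN (getC invTable a.toN)⟩

theorem toN_add (a b : F16) : (a + b).toN = a.toN ^^^ b.toN :=
  Nat.mod_eq_of_lt (Nat.xor_lt_two_pow (n := 4) a.toN_lt b.toN_lt)

theorem toN_mul (a b : F16) : (a * b).toN = getC mulTable (16 * a.toN + b.toN) :=
  Nat.mod_eq_of_lt (getC_lt _ _)

theorem toN_zero : (0 : F16).toN = 0 := rfl
theorem toN_one : (1 : F16).toN = 1 := rfl

set_option maxRecDepth 100000 in
instance : CommRing F16 where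
  add_assoc := by decide +kernel
  zero_add := by decide +kernel
  add_zero := by decide +kernel
  add_comm := by decide +kernel
  neg_add_cancel := by decide +kernel
  mul_assoc := by decide +kernel
  one_mul := by decide +kernel
  mul_one := by decide +kernel
  left_distrib := by decide +kernel
  right_distrib := by decide +kernel
  zero_mul := by decide +kernel
  mul_zero := by decide +kernel
  mul_comm := by decide +kernel
  nsmul := nsmulRec
  zsmul := zsmulRec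
  npow := npowRec

instance : Field F16 where
  exists_pair_ne := ⟨0, 1, by decide +kernel⟩
  mul_inv_cancel := by decide +kernel
  inv_zero := by decide +kernel
  nnqsmul := _
  qsmul := _

theorem sub_eq_add (a b : F16) : a - b = a + b := sub_eq_add_neg a b

/-- The involutory automorphism `x ↦ x⁴`. -/
def sigma : F16 →+* F16 where
  toFun a := ofN (getC sigmaTable a.toN)
  map_one' := by decide +kernel
  map_zero' := by decide +kernel
  map_mul' := by decide +kernel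
  map_add' := by decide +kernel

theorem sigma_eq_pow : ∀ x : F16, sigma x = x ^ 4 := by decide +kernel
theorem sigma_sigma : ∀ x : F16, sigma (sigma x) = x := by decide +kernel

theorem sigma_ne_id : sigma ≠ RingHom.id F16 := fun h =>
  absurd (RingHom.congr_fun h (ofN 2)) (by decide +kernel)

theorem toN_sigma (a : F16) : (sigma a).toN = getC sigmaTable a.toN :=
  Nat.mod_eq_of_lt (getC_lt _ _)

end F16

/-- Product of codes of field elements. -/
def fmul (a b : ℕ) : ℕ := getC mulTable (16 * a + b)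

/-- Pack nine entries. -/
def pack9 (a₀ a₁ a₂ a₃ a₄ a₅ a₆ a₇ a₈ : ℕ) : ℕ :=
  a₀ + 16 * a₁ + 256 * a₂ + 4096 * a₃ + 65536 * a₄ + 1048576 * a₅ + 16777216 * a₆ +
    268435456 * a₇ + 4294967296 * a₈

theorem getC_pack9 {a₀ a₁ a₂ a₃ a₄ a₅ a₆ a₇ a₈ : ℕ} (h₀ : a₀ < 16) (h₁ : a₁ < 16) (h₂ : a₂ < 16)
    (h₃ : a₃ < 16) (h₄ : a₄ < 16) (h₅ : a₅ < 16) (h₆ : a₆ < 16) (h₇ : a₇ < 16) (h₈ : a₈ < 16) :
    let x := pack9 a₀ a₁ a₂ a₃ a₄ a₅ a₆ a₇ a₈
    getC x 0 = a₀ ∧ getC x 1 = a₁ ∧ getC x 2 = a₂ ∧ getC x 3 = a₃ ∧ getC x 4 = a₄ ∧ getC x 5 = a₅ ∧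
      getC x 6 = a₆ ∧ getC x 7 = a₇ ∧ getC x 8 = a₈ := by
  simp only [getC, pack9, Nat.shiftRight_eq_div_pow]
  norm_num
  refine ⟨?_, ?_, ?_, ?_, ?_, ?_, ?_, ?_, ?_⟩ <;> omega

/-- 3 × 3 matrices over the field with 16 elements. -/
abbrev Mat := Matrix (Fin 3) (Fin 3) F16

/-- Pack a matrix. -/
def code (M : Mat) : ℕ :=
  pack9 (M 0 0).toN (M 0 1).toN (M 0 2).toN (M 1 0).toN (M 1 1).toN (M 1 2).toN (M 2 0).toN
    (M 2 1).toN (M 2 2).toN

/-- Unpack a matrix. -/
def dec (n : ℕ) : Mat := Matrix.of fun i j => F16.ofN (getC n (3 * i.val + j.val))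

theorem getC_code (M : Mat) : getC (code M) 0 = (M 0 0).toN ∧ getC (code M) 1 = (M 0 1).toN ∧
    getC (code M) 2 = (M 0 2).toN ∧ getC (code M) 3 = (M 1 0).toN ∧ getC (code M) 4 = (M 1 1).toN ∧
    getC (code M) 5 = (M 1 2).toN ∧ getC (code M) 6 = (M 2 0).toN ∧ getC (code M) 7 = (M 2 1).toN ∧
    getC (code M) 8 = (M 2 2).toN :=
  getC_pack9 (F16.toN_lt _) (F16.toN_lt _) (F16.toN_lt _) (F16.toN_lt _) (F16.toN_lt _)
    (F16.toN_lt _) (F16.toN_lt _) (F16.toN_lt _) (F16.toN_lt _)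

theorem code_injective : Function.Injective code := by
  intro M N h
  obtain ⟨a₀, a₁, a₂, a₃, a₄, a₅, a₆, a₇, a₈⟩ := getC_code M
  obtain ⟨b₀, b₁, b₂, b₃, b₄, b₅, b₆, b₇, b₈⟩ := getC_code N
  rw [h] at a₀ a₁ a₂ a₃ a₄ a₅ a₆ a₇ a₈
  ext i j
  apply F16.toN_injective
  fin_cases i <;> fin_cases j <;> simp_all

/-- Packed product. -/
def mulC (x y : ℕ) : ℕ :=
  let e := fun i j => fmul (getC x (3 * i)) (getC y j) ^^^ fmul (getC x (3 * i + 1)) (getC y (3 + j))
    ^^^ fmul (getC x (3 * i + 2)) (getC y (6 + j))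
  pack9 (e 0 0) (e 0 1) (e 0 2) (e 1 0) (e 1 1) (e 1 2) (e 2 0) (e 2 1) (e 2 2)

theorem code_mul (M N : Mat) : code (M * N) = mulC (code M) (code N) := by
  obtain ⟨a₀, a₁, a₂, a₃, a₄, a₅, a₆, a₇, a₈⟩ := getC_code M
  obtain ⟨b₀, b₁, b₂, b₃, b₄, b₅, b₆, b₇, b₈⟩ := getC_code N
  simp only [mulC, Nat.reduceMul, Nat.reduceAdd, fmul, a₀, a₁, a₂, a₃, a₄, a₅, a₆, a₇, a₈, b₀, b₁,
    b₂, b₃, b₄, b₅, b₆, b₇, b₈, ← F16.toN_mul, ← F16.toN_add]
  simp only [code, Matrix.mul_apply, Fin.sum_univ_three]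

/-- Packed transpose of the image under `σ`. -/
def adjointC (x : ℕ) : ℕ :=
  let e := fun k => getC sigmaTable (getC x k)
  pack9 (e 0) (e 3) (e 6) (e 1) (e 4) (e 7) (e 2) (e 5) (e 8)

theorem code_adjoint (M : Mat) : code (M.map F16.sigma).transpose = adjointC (code M) := by
  obtain ⟨a₀, a₁, a₂, a₃, a₄, a₅, a₆, a₇, a₈⟩ := getC_code M
  simp only [adjointC, a₀, a₁, a₂, a₃, a₄, a₅, a₆, a₇, a₈, ← F16.toN_sigma]
  rfl

/-- Packed determinant. -/
def detC (x : ℕ) : ℕ :=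
  fmul (getC x 0) (fmul (getC x 4) (getC x 8) ^^^ fmul (getC x 5) (getC x 7)) ^^^
    fmul (getC x 1) (fmul (getC x 3) (getC x 8) ^^^ fmul (getC x 5) (getC x 6)) ^^^
    fmul (getC x 2) (fmul (getC x 3) (getC x 7) ^^^ fmul (getC x 4) (getC x 6))

theorem code_det (M : Mat) : M.det.toN = detC (code M) := by
  obtain ⟨a₀, a₁, a₂, a₃, a₄, a₅, a₆, a₇, a₈⟩ := getC_code M
  simp only [detC, fmul, a₀, a₁, a₂, a₃, a₄, a₅, a₆, a₇, a₈, ← F16.toN_mul, ← F16.toN_add]
  refine congrArg F16.toN ?_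
  rw [Matrix.det_fin_three]
  simp only [F16.sub_eq_add]
  ring

/-- Packed adjugate. -/
def adjugateC (x : ℕ) : ℕ :=
  let m := fun a b c d => fmul (getC x a) (getC x b) ^^^ fmul (getC x c) (getC x d)
  pack9 (m 4 8 5 7) (m 1 8 2 7) (m 1 5 2 4) (m 3 8 5 6) (m 0 8 2 6) (m 0 5 2 3) (m 3 7 4 6)
    (m 0 7 1 6) (m 0 4 1 3)

theorem code_adjugate (M : Mat) : code M.adjugate = adjugateC (code M) := by
  obtain ⟨a₀, a₁, a₂, a₃, a₄, a₅, a₆, a₇, a₈⟩ := getC_code M
  simp only [adjugateC, fmul, a₀, a₁, a₂, a₃, a₄, a₅, a₆, a₇, a₈, ← F16.toN_mul, ← F16.toN_add]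
  simp only [code, Matrix.adjugate_fin_three, Matrix.of_apply, Matrix.cons_val', Matrix.cons_val_zero,
    Matrix.cons_val_one, Matrix.cons_val, Matrix.empty_val', Matrix.cons_val_fin_one,
    F16.sub_eq_add, neg_add_rev, show ∀ a : F16, -a = a from fun _ => rfl]

end Cfsg.Agent.U34
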