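import Cfsg.Agent.Lib.U34.Field
import Mathlib.Data.List.GetD

/-! Kernel checks of the certificate for SU₃ over the field with 16 elements. -/

namespace Cfsg.Agent.U34

/-- `f` holds at every position of the list, counting from `i`. -/
def allAt {α : Type} (f : ℕ → α → Bool) : List α → ℕ → Bool
  | [], _ => true
  | a :: l, i => f i a && allAt f l (i + 1)

theorem allAt_spec {α : Type} {f : ℕ → α → Bool} (d : α) : ∀ {l : List α} {i : ℕ},
    allAt f l i = true → ∀ n < l.length, f (i + n) (l.getD n d) = true := by
  intro l
  induction l with
  | nil => intro i _ n hn; simp at hn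
  | cons a l ih =>
    intro i h n hn
    rw [allAt, Bool.and_eq_true] at h
    cases n with
    | zero => exact h.1
    | succ n =>
      have := ih h.2 n (by simpa using hn)
      rw [show i + (n + 1) = i + 1 + n by omega]
      simpa using this

/-- Entry of a list stored in blocks of 80. -/
def getB {α : Type} (L : List (List α)) (i : ℕ) (d : α) : α := (L.getD (i / 80) []).getD (i % 80) d

/-- `f` holds at every index below 4800 of the blocked list of representatives. -/
def allR (f : ℕ → ℕ → Bool) : Bool :=
  allAt (fun b l => allAt (fun n x => f n x) l (80 * b)) rBlocks 0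

theorem rBlocks_shape : rBlocks.length = 60 ∧ (rBlocks.all fun l => Nat.beq l.length 80) = true := by
  decide +kernel

/-- The code of a coset representative. -/
def rC (i : ℕ) : ℕ := getB rBlocks i 0

theorem allR_spec {f : ℕ → ℕ → Bool} (h : allR f = true) {i : ℕ} (hi : i < 4800) :
    f i (rC i) = true := by
  have h1 := allAt_spec (d := []) h (i / 80) (by rw [rBlocks_shape.1]; omega)
  rw [zero_add] at h1
  have hlen : (rBlocks.getD (i / 80) []).length = 80 := by
    rw [List.getD_eq_getElem _ _ (by rw [rBlocks_shape.1]; omega)]
    exact Nat.eq_of_beq_eq_true (List.all_eq_true.1 rBlocks_shape.2 _ (List.getElem_mem _))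
  have h2 := allAt_spec (d := 0) h1 (i % 80) (by rw [hlen]; omega)
  rwa [Nat.div_add_mod] at h2

/-- The identity matrix. -/
def oneC : ℕ := 4295032833

/-- A code of an element of SU₃. -/
def inSU (x : ℕ) : Bool :=
  Nat.beq (code (dec x)) x && Nat.beq (mulC (adjointC x) x) oneC && Nat.beq (detC x) 1

/-- Powers. -/
def powC (x : ℕ) : ℕ → ℕ
  | 0 => oneC
  | n + 1 => mulC x (powC x n)

/-- The powers of `x`. -/
def xPows : List ℕ := (List.range 13).map (powC xCode)

/-- Breadth-first parents. -/
def parOk (g : List ℕ) (L : List ℕ) (P : List (ℕ × ℕ)) : Bool :=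
  allAt (fun i x => if i = 0 then Nat.beq x oneC else
    decide ((P.getD i (0, i)).1 < g.length) && decide ((P.getD i (0, i)).2 < i) &&
      Nat.beq x (mulC (g.getD (P.getD i (0, i)).1 0) (L.getD (P.getD i (0, i)).2 0))) L 0

/-- Image of a vector. -/
def appC (x v : ℕ) : ℕ :=
  let e := fun i => fmul (getC x (3 * i)) (getC v 0) ^^^ fmul (getC x (3 * i + 1)) (getC v 1)
    ^^^ fmul (getC x (3 * i + 2)) (getC v 2)
  e 0 + 16 * e 1 + 256 * e 2

/-- No image is repeated. -/
def freshFrom : List ℕ → ℕ → Bool
  | [], _ => true
  | a :: l, seen => !(Nat.testBit seen a) && freshFrom l (seen ||| 2 ^ a)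

/-- The stabiliser generators come from Schreier generators. -/
def stabOk : Bool :=
  allAt (fun t x => match stabDef.getD t (975, 2, 975) with
    | (j, k, i) => decide (j < 975) && decide (k < 2) && decide (i < 975) &&
        Nat.beq (mulC (uList.getD j 0) x)
          (mulC (([aCode, bCode] : List ℕ).getD k 0) (uList.getD i 0))) stabGens 0

/-- The representatives are products of generators. -/
def rParOk : Bool :=
  allR fun i x => if i = 0 then Nat.beq x oneC else
    decide ((getB rPar i (2, i)).1 < 2) && decide ((getB rPar i (2, i)).2 < i) &&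
      Nat.beq x (mulC (([aCode, bCode] : List ℕ).getD (getB rPar i (2, i)).1 0) (rC (getB rPar i (2, i)).2))

/-- Left multiplication by `g` maps cosets as recorded. -/
def tabOk (g : ℕ) (T : List (List (ℕ × ℕ))) : Bool :=
  allR fun i x => decide ((getB T i (4800, 13)).1 < 4800) && decide ((getB T i (4800, 13)).2 < 13) &&
    Nat.beq (mulC g x) (mulC (rC (getB T i (4800, 13)).1) (xPows.getD (getB T i (4800, 13)).2 0))

/-- The rank weights shifted by 64. -/
def weightN (m : ℕ) : ℕ :=
  if Nat.beq m 0 then 0 else if Nat.beq (adjugateC m) 0 then 80 else if Nat.beq (detC m) 0 then 60 else 65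

/-- The shifted class function. -/
def classN (g : ℕ) : ℕ :=
  (mu5.map fun k => weightN (g ^^^ (k * 4295032833))).sum / 5

/-- The sum over the coset of `⟨x⟩` vanishes. -/
def sumOk (r : ℕ) : Bool :=
  Nat.beq (((xPows.map fun y => classN (mulC y r)).sum) % 5) ((13 * 64) % 5)

/-- Every representative reaches one with vanishing sum. -/
def orbitOk : Bool :=
  allR fun i x => match getB orbit i (3, 0, 0, 0) with
    | (k, p, m, s) => if k = 2 then sumOk x else
        decide (k < 2) && decide (p < 4800) && decide (m < 13) &&
          decide ((getB orbit p (0, 0, 0, 0)).2.2.2 < s) &&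
          Nat.beq (mulC x (xPows.getD m 0))
            (if k = 0 then mulC xCode (rC p) else mulC (mulC nCode (rC p)) nInvCode)

/-- The recorded order of an element. -/
def ordOk (x k : ℕ) : Bool :=
  Nat.beq (powC x k) oneC && (List.range k).all fun j => j == 0 || !(Nat.beq (powC x j) oneC)

theorem members_ok : ([aCode, bCode, xCode, nCode, nInvCode, tenCode, fifteenCode].all inSU) = true := by
  decide +kernel
theorem stabGens_su : stabGens.all inSU = true := by decide +kernel
theorem stab_len : stabGens.length = 4 ∧ uList.length = 975 ∧ vList.length = 64 := by decide +kernel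
theorem uPar_ok : parOk [aCode, bCode] uList uPar = true := by decide +kernel
theorem stab_ok : stabOk = true := by decide +kernel
theorem vPar_ok : parOk stabGens vList vPar = true := by decide +kernel
theorem v_fix : (vList.all fun g => Nat.beq (appC g pVec) pVec) = true := by decide +kernel
theorem u_fresh : freshFrom (uList.map fun g => appC g pVec) 0 = true := by decide +kernel
theorem v_fresh : freshFrom (vList.map fun g => appC g qVec) 0 = true := by decide +kernel
theorem rPar_ok : rParOk = true := by decide +kernel
theorem tabA_ok : tabOk aCode tabA = true := by decide +kernel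
theorem tabB_ok : tabOk bCode tabB = true := by decide +kernel
theorem orbit_ok : orbitOk = true := by decide +kernel
theorem n_ok : Nat.beq (mulC nCode nInvCode) oneC = true ∧
    Nat.beq (mulC (mulC nInvCode xCode) nCode) (powC xCode 9) = true := by decide +kernel
theorem x_ok : ordOk xCode 13 = true := by decide +kernel
theorem ten_ok : ordOk tenCode 10 = true := by decide +kernel
theorem fifteen_ok : ordOk fifteenCode 15 = true := by decide +kernel

end Cfsg.Agent.U34
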