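import Cfsg.Prelude.Def_Classical
import Cfsg.Agent.Lib.U34.Cert
import Cfsg.Agent.Lib.Classical.HermSU
import Mathlib.GroupTheory.Sylow
import Mathlib.Data.ZMod.Basic
import Mathlib.Algebra.Field.ZMod

/-! The group SU₃(4): generators, element orders, and a class function orthogonal to every subgroup of order 13. -/

namespace Cfsg.Agent.U34

open Matrix Cfsg.Agent

/-- SU₃ over the field with 16 elements. -/
abbrev G16 : Subgroup (Matrix.SpecialLinearGroup (Fin 3) F16) := Cfsg.SU 3 F16 4

theorem card_fixed : Nat.card (Hermitian.fixed F16.sigma) = 4 := by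
  have h := Hermitian.card_eq_sq F16.sigma_ne_id F16.sigma_sigma
  rw [Nat.card_eq_fintype_card, F16.card] at h
  exact Nat.pow_left_injective two_ne_zero (show _ ^ 2 = 4 ^ 2 from h.symm.trans (by norm_num))

theorem card_G16 : Nat.card G16 = 62400 := by
  have h := HermSU.card_SU_mul (n := 3) F16.sigma_ne_id F16.sigma_sigma F16.sigma_eq_pow (by norm_num)
    card_fixed
  rw [HermStd.card_GU F16.sigma_ne_id F16.sigma_sigma F16.sigma_eq_pow 3 card_fixed] at h
  simp [Finset.prod_range_succ, Nat.even_iff] at h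
  norm_num at h
  show Nat.card ↥(Cfsg.SU 3 F16 4) = 62400
  omega

theorem center_eq_bot : Subgroup.center G16 = ⊥ := by
  refine Subgroup.card_eq_one.1 ?_
  rw [HermSU.card_center_SU F16.sigma_ne_id F16.sigma_sigma F16.sigma_eq_pow (by norm_num) card_fixed]
  norm_num

/-- The code of a group element. -/
def gcode (g : G16) : ℕ := code g.1.1

theorem gcode_injective : Function.Injective gcode := fun _ _ h =>
  Subtype.ext (Subtype.ext (code_injective h))

theorem gcode_mul (g h : G16) : gcode (g * h) = mulC (gcode g) (gcode h) := code_mul _ _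

theorem gcode_one : gcode 1 = oneC := by
  show code 1 = oneC
  decide +kernel

theorem gcode_pow (g : G16) : ∀ n, gcode (g ^ n) = powC (gcode g) n := by
  intro n
  induction n with
  | zero => rw [pow_zero]; exact gcode_one
  | succ n ih => rw [pow_succ', gcode_mul, ih]; rfl

theorem exists_of_inSU {x : ℕ} (h : inSU x = true) : ∃ g : G16, gcode g = x := by
  rw [inSU, Bool.and_eq_true, Bool.and_eq_true] at h
  obtain ⟨⟨h1, h2⟩, h3⟩ := h
  have hd : (dec x).det = 1 := F16.toN_injective (by
    rw [code_det, Nat.eq_of_beq_eq_true h1, Nat.eq_of_beq_eq_true h3, F16.toN_one])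
  have hu : ((dec x).map F16.sigma).transpose * dec x = 1 := code_injective (by
    rw [code_mul, code_adjoint, Nat.eq_of_beq_eq_true h1, Nat.eq_of_beq_eq_true h2]
    exact gcode_one.symm)
  have hu' : (dec x).transpose * (dec x).map F16.sigma = 1 := by
    have := congrArg Matrix.transpose hu
    rwa [Matrix.transpose_mul, Matrix.transpose_one, Matrix.transpose_transpose] at this
  exact ⟨⟨⟨dec x, hd⟩, (HermSU.mem_SU_iff (q := 4) F16.sigma_eq_pow _).2 hu'⟩,
    Nat.eq_of_beq_eq_true h1⟩

theorem members {x : ℕ} (h : x ∈ [aCode, bCode, xCode, nCode, nInvCode, tenCode, fifteenCode]) :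
    ∃ g : G16, gcode g = x :=
  exists_of_inSU (List.all_eq_true.1 members_ok x h)

/-- The first generator. -/
noncomputable def gA : G16 := (members (x := aCode) (by simp)).choose
/-- The second generator. -/
noncomputable def gB : G16 := (members (x := bCode) (by simp)).choose
/-- An element of order 13. -/
noncomputable def gX : G16 := (members (x := xCode) (by simp)).choose
/-- An element normalising `⟨gX⟩`. -/
noncomputable def gN : G16 := (members (x := nCode) (by simp)).choose

theorem gcode_gA : gcode gA = aCode := (members (x := aCode) (by simp)).choose_spec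
theorem gcode_gB : gcode gB = bCode := (members (x := bCode) (by simp)).choose_spec
theorem gcode_gX : gcode gX = xCode := (members (x := xCode) (by simp)).choose_spec
theorem gcode_gN : gcode gN = nCode := (members (x := nCode) (by simp)).choose_spec

/-- The subgroup generated by the two generators. -/
noncomputable def K : Subgroup G16 := Subgroup.closure {gA, gB}

theorem gA_mem : gA ∈ K := Subgroup.subset_closure (by simp)
theorem gB_mem : gB ∈ K := Subgroup.subset_closure (by simp)

theorem exists_par {gs : List ℕ} {L : List ℕ} {P : List (ℕ × ℕ)}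
    (hg : ∀ i < gs.length, ∃ g ∈ K, gcode g = gs.getD i 0)
    (hok : parOk gs L P = true) : ∀ n < L.length, ∃ g ∈ K, gcode g = L.getD n 0 := by
  intro n
  induction n using Nat.strong_induction_on with
  | _ n ih =>
    intro hn
    have h := allAt_spec (d := 0) hok n hn
    rw [zero_add] at h
    by_cases h0 : n = 0
    · rw [if_pos h0] at h
      exact ⟨1, K.one_mem, gcode_one.trans (Nat.eq_of_beq_eq_true h).symm⟩
    · rw [if_neg h0] at h
      simp only [Bool.and_eq_true, decide_eq_true_eq] at h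
      obtain ⟨g, hgK, hgc⟩ := ih _ h.1.2 (h.1.2.trans hn)
      obtain ⟨k, hkK, hkc⟩ := hg _ h.1.1
      refine ⟨k * g, K.mul_mem hkK hgK, ?_⟩
      rw [gcode_mul, hkc, hgc, Nat.eq_of_beq_eq_true h.2]

theorem exists_gen : ∀ i < ([aCode, bCode] : List ℕ).length,
    ∃ g ∈ K, gcode g = ([aCode, bCode] : List ℕ).getD i 0 := by
  intro i hi
  simp only [List.length_cons, List.length_nil] at hi
  interval_cases i
  · exact ⟨gA, gA_mem, gcode_gA⟩
  · exact ⟨gB, gB_mem, gcode_gB⟩

theorem exists_u {i : ℕ} (hi : i < 975) : ∃ g ∈ K, gcode g = uList.getD i 0 :=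
  exists_par exists_gen uPar_ok i (by rw [stab_len.2.1]; exact hi)

theorem exists_stabGen {t : ℕ} (ht : t < stabGens.length) :
    ∃ g ∈ K, gcode g = stabGens.getD t 0 := by
  have hsu : inSU (stabGens.getD t 0) = true := by
    rw [List.getD_eq_getElem _ _ ht]
    exact List.all_eq_true.1 stabGens_su _ (List.getElem_mem ht)
  obtain ⟨g, hg⟩ := exists_of_inSU hsu
  refine ⟨g, ?_, hg⟩
  have h := allAt_spec (d := 0) stab_ok t ht
  rw [zero_add] at h
  rcases hd : stabDef.getD t (975, 2, 975) with ⟨j, k, i⟩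
  rw [hd] at h
  simp only [Bool.and_eq_true, decide_eq_true_eq] at h
  obtain ⟨⟨⟨hj, hk⟩, hi⟩, he⟩ := h
  obtain ⟨u, hu, huc⟩ := exists_u hj
  obtain ⟨w, hw, hwc⟩ := exists_u hi
  obtain ⟨y, hy, hyc⟩ := exists_gen k (by simpa using hk)
  have : u * g = y * w := gcode_injective (by
    rw [gcode_mul, gcode_mul, huc, hg, hyc, hwc]
    exact Nat.eq_of_beq_eq_true he)
  rw [show g = u⁻¹ * (y * w) by rw [← this, inv_mul_cancel_left]]
  exact K.mul_mem (K.inv_mem hu) (K.mul_mem hy hw)

theorem exists_v {j : ℕ} (hj : j < 64) : ∃ g ∈ K, gcode g = vList.getD j 0 :=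
  exists_par (fun _ ht => exists_stabGen ht) vPar_ok j (by rw [stab_len.2.2]; exact hj)

/-- Decode a vector. -/
def decV (v : ℕ) : Fin 3 → F16 := fun i => F16.ofN (getC v i)

/-- Encode a vector. -/
def encV (v : Fin 3 → F16) : ℕ := (v 0).toN + 16 * (v 1).toN + 256 * (v 2).toN

theorem getC_encV (v : Fin 3 → F16) :
    getC (encV v) 0 = (v 0).toN ∧ getC (encV v) 1 = (v 1).toN ∧ getC (encV v) 2 = (v 2).toN := by
  have h0 := (v 0).toN_lt
  have h1 := (v 1).toN_lt
  have h2 := (v 2).toN_lt
  simp only [getC, encV, Nat.shiftRight_eq_div_pow]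
  norm_num
  omega

theorem appC_code (M : Mat) (v : Fin 3 → F16) : appC (code M) (encV v) = encV (M *ᵥ v) := by
  obtain ⟨a₀, a₁, a₂, a₃, a₄, a₅, a₆, a₇, a₈⟩ := getC_code M
  obtain ⟨b₀, b₁, b₂⟩ := getC_encV v
  simp only [appC, Nat.reduceMul, Nat.reduceAdd, fmul, a₀, a₁, a₂, a₃, a₄, a₅, a₆, a₇, a₈, b₀, b₁,
    b₂, ← F16.toN_mul, ← F16.toN_add]
  simp only [encV, Matrix.mulVec, dotProduct, Fin.sum_univ_three]

theorem encV_decV_p : encV (decV pVec) = pVec ∧ encV (decV qVec) = qVec := by decide +kernel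

theorem freshFrom_spec : ∀ {l : List ℕ} {s : ℕ}, freshFrom l s = true →
    l.Nodup ∧ ∀ a ∈ l, Nat.testBit s a = false := by
  intro l
  induction l with
  | nil => intro s _; simp
  | cons a l ih =>
    intro s h
    rw [freshFrom, Bool.and_eq_true, Bool.not_eq_true'] at h
    obtain ⟨hnd, hno⟩ := ih h.2
    refine ⟨List.nodup_cons.2 ⟨fun ha => ?_, hnd⟩, fun b hb => ?_⟩
    · have := hno a ha
      simp [Nat.testBit_or] at this
    · rcases List.mem_cons.1 hb with rfl | hb
      · exact h.1
      · have := hno b hb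
        simp only [Nat.testBit_or, Bool.or_eq_false_iff] at this
        exact this.1

theorem K_eq_top : K = ⊤ := by
  choose u hu huc using fun i : Fin 975 => exists_u i.2
  choose v hv hvc using fun j : Fin 64 => exists_v j.2
  have hfix : ∀ j, appC (gcode (v j)) pVec = pVec := by
    intro j
    rw [hvc]
    have hj : (j : ℕ) < vList.length := by rw [stab_len.2.2]; exact j.2
    rw [List.getD_eq_getElem _ _ hj]
    exact Nat.eq_of_beq_eq_true (List.all_eq_true.1 v_fix _ (List.getElem_mem hj))
  have hvp : ∀ j, (v j).1.1 *ᵥ decV pVec = decV pVec := by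
    intro j
    have h1 := hfix j
    rw [← encV_decV_p.1, gcode, appC_code] at h1
    obtain ⟨a0, a1, a2⟩ := getC_encV ((v j).1.1 *ᵥ decV pVec)
    obtain ⟨b0, b1, b2⟩ := getC_encV (decV pVec)
    rw [h1] at a0 a1 a2
    funext i
    apply F16.toN_injective
    fin_cases i
    · exact a0.symm.trans b0
    · exact a1.symm.trans b1
    · exact a2.symm.trans b2
  have hinj : Function.Injective
      (fun ij : Fin 975 × Fin 64 => (⟨u ij.1 * v ij.2, K.mul_mem (hu _) (hv _)⟩ : K)) := by
    rintro ⟨i, j⟩ ⟨i', j'⟩ e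
    have e' : u i * v j = u i' * v j' := congrArg Subtype.val e
    have hp : appC (gcode (u i)) pVec = appC (gcode (u i')) pVec := by
      have h2 := congrArg (fun g : G16 => g.1.1 *ᵥ decV pVec) e'
      simp only [Subgroup.coe_mul, Matrix.SpecialLinearGroup.coe_mul, ← Matrix.mulVec_mulVec, hvp] at h2
      rw [← encV_decV_p.1, gcode, gcode, appC_code, appC_code, h2]
    have hii : i = i' := by
      apply Fin.ext
      have hnd := (freshFrom_spec u_fresh).1
      have hlen : (uList.map fun g => appC g pVec).length = 975 := by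
        rw [List.length_map, stab_len.2.1]
      rw [huc, huc] at hp
      refine (hnd.getElem_inj_iff (hi := by omega) (hj := by omega)).1 ?_
      simpa [List.getD_eq_getElem, stab_len.2.1] using hp
    subst hii
    have hvv : v j = v j' := mul_left_cancel e'
    have hjj : j = j' := by
      apply Fin.ext
      have hnd := (freshFrom_spec v_fresh).1
      have hlen : (vList.map fun g => appC g qVec).length = 64 := by
        rw [List.length_map, stab_len.2.2]
      have hq : appC (gcode (v j)) qVec = appC (gcode (v j')) qVec := by rw [hvv]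
      rw [hvc, hvc] at hq
      refine (hnd.getElem_inj_iff (hi := by omega) (hj := by omega)).1 ?_
      simpa [List.getD_eq_getElem, stab_len.2.2] using hq
    rw [hjj]
  apply Subgroup.eq_top_of_le_card
  rw [card_G16]
  have := Nat.card_le_card_of_injective _ hinj
  simpa using this

theorem orderOf_of_ordOk {g : G16} {x k : ℕ} (hg : gcode g = x) (hk : 0 < k) (h : ordOk x k = true) :
    orderOf g = k := by
  simp only [ordOk, Bool.and_eq_true, List.all_eq_true, List.mem_range, Bool.or_eq_true, beq_iff_eq,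
    Bool.not_eq_true'] at h
  rw [orderOf_eq_iff hk]
  refine ⟨gcode_injective ?_, fun j hj hj0 hpow => ?_⟩
  · rw [gcode_pow, gcode_one, hg]
    exact Nat.eq_of_beq_eq_true h.1
  · rcases h.2 j hj with e | e
    · omega
    · refine Nat.ne_of_beq_eq_false e ?_
      rw [← hg, ← gcode_pow, hpow, gcode_one]

theorem orderOf_gX : orderOf gX = 13 := orderOf_of_ordOk gcode_gX (by norm_num) x_ok

theorem exists_order_ten : ∃ g : G16, orderOf g = 10 := by
  obtain ⟨g, hg⟩ := members (x := tenCode) (by simp)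
  exact ⟨g, orderOf_of_ordOk hg (by norm_num) ten_ok⟩

theorem exists_order_fifteen : ∃ g : G16, orderOf g = 15 := by
  obtain ⟨g, hg⟩ := members (x := fifteenCode) (by simp)
  exact ⟨g, orderOf_of_ordOk hg (by norm_num) fifteen_ok⟩

theorem gN_conj : gN⁻¹ * gX * gN = gX ^ 9 := by
  obtain ⟨m, hm⟩ := members (x := nInvCode) (by simp)
  have hinv : gN⁻¹ = m := inv_eq_of_mul_eq_one_right (gcode_injective (by
    rw [gcode_mul, gcode_gN, hm, gcode_one]; exact Nat.eq_of_beq_eq_true n_ok.1))
  refine gcode_injective ?_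
  rw [hinv, gcode_mul, gcode_mul, hm, gcode_gX, gcode_gN, gcode_pow, gcode_gX]
  exact Nat.eq_of_beq_eq_true n_ok.2

/-! ### The class function -/

/-- The weight of a matrix according to its rank. -/
def weight (M : Mat) : ℕ := if M = 0 then 0 else if M.adjugate = 0 then 80 else if M.det = 0 then 60 else 65

/-- The class function. -/
def cf (g : G16) : ZMod 5 :=
  64 - (((mu5.map fun k => weight (g.1.1 + F16.ofN k • (1 : Mat))).sum / 5 : ℕ) : ZMod 5)

theorem weight_conj (g : G16) (M : Mat) : weight (g.1.1 * M * (g⁻¹ : G16).1.1) = weight M := by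
  have h1 : g.1.1 * (g⁻¹ : G16).1.1 = 1 := by
    rw [← Matrix.SpecialLinearGroup.coe_mul, ← Subgroup.coe_mul, mul_inv_cancel]; rfl
  have h2 : (g⁻¹ : G16).1.1 * g.1.1 = 1 := by
    rw [← Matrix.SpecialLinearGroup.coe_mul, ← Subgroup.coe_mul, inv_mul_cancel]; rfl
  have e0 : g.1.1 * M * (g⁻¹ : G16).1.1 = 0 ↔ M = 0 := by
    refine ⟨fun h => ?_, fun h => by simp [h]⟩
    calc M = (g⁻¹ : G16).1.1 * (g.1.1 * M * (g⁻¹ : G16).1.1) * g.1.1 := by
          simp only [← mul_assoc, h2, one_mul]
          rw [mul_assoc, h2, mul_one]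
      _ = 0 := by rw [h]; simp
  have e1 : (g.1.1 * M * (g⁻¹ : G16).1.1).adjugate = 0 ↔ M.adjugate = 0 := by
    rw [Matrix.adjugate_mul_distrib, Matrix.adjugate_mul_distrib]
    refine ⟨fun h => ?_, fun h => by simp [h]⟩
    have a1 : g.1.1.adjugate * (g⁻¹ : G16).1.1.adjugate = 1 := by
      rw [← Matrix.adjugate_mul_distrib, h2, Matrix.adjugate_one]
    have a2 : (g⁻¹ : G16).1.1.adjugate * g.1.1.adjugate = 1 := by
      rw [← Matrix.adjugate_mul_distrib, h1, Matrix.adjugate_one]
    calc M.adjugate = g.1.1.adjugate *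
          ((g⁻¹ : G16).1.1.adjugate * (M.adjugate * g.1.1.adjugate)) * (g⁻¹ : G16).1.1.adjugate := by
          simp only [← mul_assoc, a1, one_mul]
          rw [mul_assoc, a1, mul_one]
      _ = 0 := by rw [h]; simp
  have e2 : (g.1.1 * M * (g⁻¹ : G16).1.1).det = 0 ↔ M.det = 0 := by
    rw [Matrix.det_mul, Matrix.det_mul, g.1.2, (g⁻¹ : G16).1.2, one_mul, mul_one]
  simp only [weight, e0, e1, e2]

theorem cf_conj (g h : G16) : cf (g * h * g⁻¹) = cf h := by
  have key : ∀ k : F16, (g * h * g⁻¹).1.1 + k • (1 : Mat) =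
      g.1.1 * (h.1.1 + k • (1 : Mat)) * (g⁻¹ : G16).1.1 := by
    intro k
    have h1 : g.1.1 * (g⁻¹ : G16).1.1 = 1 := by
      rw [← Matrix.SpecialLinearGroup.coe_mul, ← Subgroup.coe_mul, mul_inv_cancel]; rfl
    rw [Matrix.mul_add, Matrix.add_mul, Matrix.mul_smul, Matrix.smul_mul, mul_one, h1]
    rfl
  simp only [cf, key, weight_conj]

theorem cf_mul_comm (g h : G16) : cf (g * h) = cf (h * g) := by
  rw [← cf_conj h (g * h)]
  congr 1
  group

theorem getC_xor (a b k : ℕ) : getC (a ^^^ b) k = getC a k ^^^ getC b k := by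
  rw [getC, getC, getC, Nat.shiftRight_xor_distrib]
  exact Nat.xor_mod_two_pow (n := 4)

theorem eq_pack9 {x : ℕ} (hx : x < 68719476736) : x = pack9 (getC x 0) (getC x 1) (getC x 2) (getC x 3)
    (getC x 4) (getC x 5) (getC x 6) (getC x 7) (getC x 8) := by
  simp only [getC, pack9, Nat.shiftRight_eq_div_pow]
  norm_num
  omega

theorem code_lt (M : Mat) : code M < 68719476736 := by
  have := (M 0 0).toN_lt
  have := (M 0 1).toN_lt
  have := (M 0 2).toN_lt
  have := (M 1 0).toN_lt
  have := (M 1 1).toN_lt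
  have := (M 1 2).toN_lt
  have := (M 2 0).toN_lt
  have := (M 2 1).toN_lt
  have := (M 2 2).toN_lt
  simp only [code, pack9]
  omega

theorem code_shift (M : Mat) {k : ℕ} (hk : k ∈ mu5) :
    code (M + F16.ofN k • (1 : Mat)) = code M ^^^ (k * 4295032833) := by
  have hd : ∀ k ∈ mu5, k * 4295032833 < 68719476736 ∧
      code (F16.ofN k • (1 : Mat)) = k * 4295032833 := by decide +kernel
  obtain ⟨hlt, he⟩ := hd k hk
  have hx : code M ^^^ (k * 4295032833) < 68719476736 := Nat.xor_lt_two_pow (n := 36) (code_lt M) hlt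
  rw [eq_pack9 hx]
  obtain ⟨a₀, a₁, a₂, a₃, a₄, a₅, a₆, a₇, a₈⟩ := getC_code M
  obtain ⟨b₀, b₁, b₂, b₃, b₄, b₅, b₆, b₇, b₈⟩ := getC_code (F16.ofN k • (1 : Mat))
  rw [he] at b₀ b₁ b₂ b₃ b₄ b₅ b₆ b₇ b₈
  simp only [getC_xor, a₀, a₁, a₂, a₃, a₄, a₅, a₆, a₇, a₈, b₀, b₁, b₂, b₃, b₄, b₅, b₆, b₇, b₈,
    ← F16.toN_add]
  rfl

theorem weight_eq (M : Mat) : weight M = weightN (code M) := by
  have hz : code (0 : Mat) = 0 := by decide +kernel
  have e0 : Nat.beq (code M) 0 = true ↔ M = 0 :=
    ⟨fun h => code_injective ((Nat.eq_of_beq_eq_true h).trans hz.symm),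
      fun h => by subst h; rw [hz]; rfl⟩
  have e1 : Nat.beq (adjugateC (code M)) 0 = true ↔ M.adjugate = 0 := by
    rw [← code_adjugate]
    exact ⟨fun h => code_injective ((Nat.eq_of_beq_eq_true h).trans hz.symm),
      fun h => by rw [h, hz]; rfl⟩
  have e2 : Nat.beq (detC (code M)) 0 = true ↔ M.det = 0 := by
    rw [← code_det]
    exact ⟨fun h => F16.toN_injective ((Nat.eq_of_beq_eq_true h).trans F16.toN_zero.symm),
      fun h => by rw [h]; rfl⟩
  simp only [weight, weightN, e0, e1, e2]

theorem cf_eq (g : G16) : cf g = 64 - ((classN (gcode g) : ℕ) : ZMod 5) := by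
  unfold cf classN
  congr 4
  refine List.map_congr_left fun k hk => ?_
  rw [weight_eq, code_shift _ hk]
  rfl

/-- The sum of the class function over a coset of `⟨gX⟩`. -/
noncomputable def cosetSum (g : G16) : ZMod 5 :=
  ((List.range 13).map fun i => cf (gX ^ i * g)).sum

theorem cosetSum_eq_sum (g : G16) :
    cosetSum g = ∑ i ∈ Finset.range 13, cf (gX ^ i * g) := rfl

theorem cosetSum_shift (g : G16) : cosetSum (gX * g) = cosetSum g := by
  rw [cosetSum_eq_sum, cosetSum_eq_sum]
  simp only [← mul_assoc, ← pow_succ]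
  rw [Finset.sum_range_succ _ 12, Finset.sum_range_succ' _ 12]
  congr 2
  rw [show gX ^ (12 + 1) = 1 by rw [show (12 : ℕ) + 1 = 13 from rfl, ← orderOf_gX, pow_orderOf_eq_one],
    pow_zero]

theorem cosetSum_pow_right (g : G16) (m : ℕ) : cosetSum (g * gX ^ m) = cosetSum g := by
  induction m with
  | zero => simp
  | succ m ih =>
    rw [← ih, ← cosetSum_shift (g * gX ^ m), cosetSum_eq_sum, cosetSum_eq_sum]
    refine Finset.sum_congr rfl fun i _ => ?_
    rw [pow_succ, ← mul_assoc, ← mul_assoc, cf_mul_comm _ gX]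
    congr 1
    group

theorem pow_mod (i : ℕ) : gX ^ (i % 13) = gX ^ i := by
  rw [← orderOf_gX, pow_mod_orderOf]

theorem cosetSum_conj (g : G16) : cosetSum (gN * g * gN⁻¹) = cosetSum g := by
  rw [cosetSum_eq_sum, cosetSum_eq_sum]
  refine Finset.sum_bij (fun i _ => 9 * i % 13) (fun i _ => Finset.mem_range.2 (Nat.mod_lt _ (by norm_num)))
    (fun i hi j hj h => ?_) (fun j hj => ⟨3 * j % 13, ?_, ?_⟩) (fun i _ => ?_)
  · simp only [Finset.mem_range] at hi hj
    omega
  · exact Finset.mem_range.2 (Nat.mod_lt _ (by norm_num))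
  · simp only [Finset.mem_range] at hj
    omega
  · rw [pow_mod, pow_mul, ← gN_conj, show gN⁻¹ * gX * gN = gN⁻¹ * gX * gN⁻¹⁻¹ by rw [inv_inv],
      conj_pow, ← cf_conj gN (gN⁻¹ * gX ^ i * gN⁻¹⁻¹ * g)]
    congr 1
    group

theorem xPows_getD {m : ℕ} (hm : m < 13) : xPows.getD m 0 = gcode (gX ^ m) := by
  rw [gcode_pow, gcode_gX, List.getD_eq_getElem _ _ (by simp [xPows]; exact hm)]
  simp [xPows]

theorem exists_r : ∀ i < 4800, ∃ g : G16, gcode g = rC i := by
  intro i
  induction i using Nat.strong_induction_on with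
  | _ i ih =>
    intro hi
    have h := allR_spec rPar_ok hi
    by_cases h0 : i = 0
    · rw [if_pos h0] at h
      exact ⟨1, gcode_one.trans (Nat.eq_of_beq_eq_true h).symm⟩
    · rw [if_neg h0] at h
      simp only [Bool.and_eq_true, decide_eq_true_eq] at h
      obtain ⟨g, hg⟩ := ih _ h.1.2 (h.1.2.trans hi)
      obtain ⟨k, -, hk⟩ := exists_gen _ (by simpa using h.1.1)
      exact ⟨k * g, by rw [gcode_mul, hk, hg, Nat.eq_of_beq_eq_true h.2]⟩

theorem exists_coset (g : G16) : ∃ i < 4800, ∃ m < 13, gcode g = mulC (rC i) (xPows.getD m 0) := by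
  have hg : g ∈ K := K_eq_top ▸ Subgroup.mem_top g
  rw [← Subgroup.mem_toSubmonoid, K,
    Subgroup.closure_toSubmonoid_of_isOfFinOrder (fun x _ => isOfFinOrder_of_finite x)] at hg
  induction hg using Submonoid.closure_induction_left with
  | one =>
    refine ⟨0, by norm_num, 0, by norm_num, ?_⟩
    obtain ⟨r, hr⟩ := exists_r 0 (by norm_num)
    have h := allR_spec rPar_ok (i := 0) (by norm_num)
    have hr1 : r = 1 := gcode_injective (by
      rw [hr, Nat.eq_of_beq_eq_true h, gcode_one])
    rw [xPows_getD (by norm_num), ← hr, ← gcode_mul, hr1]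
    simp
  | mul_left s hs y _ ih =>
    obtain ⟨i, hi, m, hm, hy⟩ := ih
    have key : ∀ T, tabOk (gcode s) T = true →
        ∃ j < 4800, ∃ k < 13, gcode (s * y) = mulC (rC j) (xPows.getD k 0) := by
      intro T hT
      have h := allR_spec hT hi
      simp only [Bool.and_eq_true, decide_eq_true_eq] at h
      obtain ⟨r, hr⟩ := exists_r i hi
      obtain ⟨r', hr'⟩ := exists_r _ h.1.1
      set k := (getB T i (4800, 13)).2
      refine ⟨_, h.1.1, (k + m) % 13, Nat.mod_lt _ (by norm_num), ?_⟩
      have e1 : s * r = r' * gX ^ k := gcode_injective (by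
        rw [gcode_mul, gcode_mul, hr, hr', ← xPows_getD h.1.2]
        exact Nat.eq_of_beq_eq_true h.2)
      have e2 : y = r * gX ^ m := gcode_injective (by rw [gcode_mul, hy, hr, ← xPows_getD hm])
      rw [xPows_getD (Nat.mod_lt _ (by norm_num)), ← hr', ← gcode_mul, pow_mod, pow_add, ← mul_assoc,
        ← e1, e2, mul_assoc]
    rcases hs with rfl | rfl
    · exact key tabA (by rw [gcode_gA]; exact tabA_ok)
    · exact key tabB (by rw [gcode_gB]; exact tabB_ok)

theorem cosetSum_rep : ∀ i < 4800, ∀ r : G16, gcode r = rC i → cosetSum r = 0 := by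
  suffices ∀ S i, (getB orbit i (0, 0, 0, 0)).2.2.2 = S → i < 4800 →
      ∀ r : G16, gcode r = rC i → cosetSum r = 0 from fun i => this _ i rfl
  intro S
  induction S using Nat.strong_induction_on with
  | _ S ih =>
    intro i hS hi r hr
    have h := allR_spec orbit_ok hi
    have hd : ∀ d d', i < 4800 → getB orbit i d = getB orbit i d' := by
      intro d d' hi
      have hshape : orbit.length = 60 ∧ (orbit.all fun l => Nat.beq l.length 80) = true := by
        decide +kernel
      have hlen : (orbit.getD (i / 80) []).length = 80 := by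
        rw [List.getD_eq_getElem _ _ (by rw [hshape.1]; omega)]
        exact Nat.eq_of_beq_eq_true (List.all_eq_true.1 hshape.2 _ (List.getElem_mem _))
      simp only [getB]
      have hl : i % 80 < (orbit.getD (i / 80) []).length := by omega
      exact (List.getD_eq_getElem _ _ hl).trans (List.getD_eq_getElem _ _ hl).symm
    rw [hd _ (3, 0, 0, 0) hi] at hS
    rcases ho : getB orbit i (3, 0, 0, 0) with ⟨k, p, m, s⟩
    rw [ho] at h hS
    subst hS
    by_cases hk : k = 2
    · simp only [if_pos hk, sumOk] at h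
      have h' := Nat.eq_of_beq_eq_true h
      have hsum : (xPows.map fun y => classN (mulC y (rC i))).sum =
          ∑ j ∈ Finset.range 13, classN (gcode (gX ^ j * r)) := by
        rw [xPows, List.map_map]
        show _ = ((List.range 13).map fun j => classN (gcode (gX ^ j * r))).sum
        congr 1
        refine List.map_congr_left fun j _ => ?_
        simp only [Function.comp, gcode_mul, gcode_pow, gcode_gX, hr]
      rw [hsum] at h'
      have h'' := (ZMod.natCast_eq_natCast_iff _ _ 5).2 h'
      rw [cosetSum_eq_sum, Finset.sum_congr rfl fun j _ => cf_eq _, Finset.sum_sub_distrib,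
        Finset.sum_const, Finset.card_range, ← Nat.cast_sum, h'']
      decide
    · simp only [if_neg hk, Bool.and_eq_true, decide_eq_true_eq] at h
      obtain ⟨⟨⟨⟨hk2, hp⟩, hm⟩, hlt⟩, he⟩ := h
      obtain ⟨rp, hrp⟩ := exists_r p hp
      have h0 := ih _ hlt p rfl hp rp hrp
      have he' := Nat.eq_of_beq_eq_true he
      rcases Nat.lt_succ_iff_lt_or_eq.1 hk2 with hk0 | hk1
      · have : r * gX ^ m = gX * rp := gcode_injective (by
          rw [gcode_mul, gcode_mul, hr, ← xPows_getD hm, gcode_gX, hrp, he', if_pos (by omega)])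
        rw [← cosetSum_pow_right r m, this, cosetSum_shift, h0]
      · obtain ⟨mi, hmi⟩ := members (x := nInvCode) (by simp)
        have hinv : gN⁻¹ = mi := inv_eq_of_mul_eq_one_right (gcode_injective (by
          rw [gcode_mul, gcode_gN, hmi, gcode_one]; exact Nat.eq_of_beq_eq_true n_ok.1))
        have : r * gX ^ m = gN * rp * gN⁻¹ := gcode_injective (by
          rw [hinv, gcode_mul, gcode_mul, gcode_mul, hr, ← xPows_getD hm, gcode_gN, hrp, hmi, he',
            if_neg (by omega)])
        rw [← cosetSum_pow_right r m, this, cosetSum_conj, h0]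

/-- The class function is orthogonal to every coset of `⟨gX⟩`. -/
theorem cosetSum_eq_zero (g : G16) : cosetSum g = 0 := by
  obtain ⟨i, hi, m, hm, h⟩ := exists_coset g
  obtain ⟨r, hr⟩ := exists_r i hi
  have : g = r * gX ^ m := gcode_injective (by rw [gcode_mul, h, hr, xPows_getD hm])
  rw [this, cosetSum_pow_right, cosetSum_rep i hi r hr]

theorem cf_one : cf 1 ≠ 0 := by
  rw [cf_eq, gcode_one]
  decide +kernel

end Cfsg.Agent.U34
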